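import Cfsg.Agent.G24.Mat

/-!
Matrices of the generators of `G₂(4)` (generated data).
-/

set_option autoImplicit false
set_option maxRecDepth 100000

namespace Cfsg.Agent.G24

open Cfsg.Agent.CosetEnum.He Cfsg.Lie Matrix

/-- the identity matrix -/
def idc : List (ℕ × ℕ) := [(1, 0), (2, 0), (4, 0), (8, 0), (16, 0), (32, 0), (64, 0), (128, 0), (256, 0), (512, 0), (1024, 0), (2048, 0), (4096, 0), (8192, 0)]

/-- the matrices of the letters -/
def C : ℕ → List (ℕ × ℕ)
  | 1 => [(1880, 8162), (6001, 7145), (172, 52), (6637, 3727), (5492, 6579), (3739, 6134), (1723, 5659), (6575, 3199), (14128, 7339), (6219, 1379), (15273, 11739), (3739, 12080), (14194, 5033), (14592, 13568)]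
  | 2 => [(8430, 3811), (10925, 11367), (9915, 10489), (88, 276), (3709, 8863), (10316, 1763), (10669, 3842), (672, 4740), (9167, 11750), (7394, 9375), (11107, 9375), (14336, 14432), (16015, 10348), (3727, 6637)]
  | 3 => [(10654, 13674), (15796, 8521), (15435, 7499), (8265, 15550), (10003, 16100), (10505, 15550), (2344, 2408), (3923, 9135), (79, 7600), (12700, 10875), (525, 8170), (2383, 5336), (14074, 14199), (247, 7436)]
  | 4 => [(1685, 1187), (4967, 15466), (472, 169), (161, 373), (496, 201), (2010, 1515), (1067, 644), (11633, 5336), (15594, 12186), (11745, 7513), (7137, 13367), (11550, 4576), (9876, 11725), (27, 4652)]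
  | 5 => [(519, 14502), (335, 501), (0, 15806), (7608, 8198), (5264, 8198), (7608, 10076), (578, 1304), (5477, 9897), (7176, 8523), (781, 1157), (5384, 8459), (7184, 9745), (5349, 10152), (331, 15427)]
  | 6 => [(4043, 7923), (579, 2), (152, 168), (3784, 5950), (7094, 3278), (6070, 6602), (7803, 4490), (3194, 6132), (15594, 12186), (5107, 3386), (4056, 12658), (12144, 4586), (13226, 16088), (3072, 6400)]
  | _ => idc

/-- the root elements in use -/
def R : List (Fin 12 × ℕ × List (ℕ × ℕ)) := [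
  (0, 1, [(8193, 0), (2, 0), (8198, 0), (264, 0), (1040, 0), (2080, 0), (64, 0), (4224, 0), (256, 0), (512, 0), (1024, 0), (2048, 0), (4096, 0), (8192, 0)]),
  (0, 2, [(1, 8192), (2, 0), (8196, 8194), (8, 256), (16, 1024), (32, 2048), (64, 0), (128, 4096), (256, 0), (512, 0), (1024, 0), (2048, 0), (4096, 0), (8192, 0)]),
  (0, 3, [(8193, 8192), (2, 0), (6, 8194), (264, 256), (1040, 1024), (2080, 2048), (64, 0), (4224, 4096), (256, 0), (512, 0), (1024, 0), (2048, 0), (4096, 0), (8192, 0)]),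
  (1, 1, [(4097, 0), (4098, 0), (132, 0), (4107, 0), (528, 0), (32, 0), (2112, 0), (128, 0), (8448, 0), (512, 0), (1024, 0), (2048, 0), (4096, 0), (8192, 0)]),
  (1, 3, [(4097, 4096), (4098, 4096), (132, 128), (11, 4099), (528, 512), (32, 0), (2112, 2048), (128, 0), (8448, 8192), (512, 0), (1024, 0), (2048, 0), (4096, 0), (8192, 0)]),
  (2, 1, [(1, 0), (2050, 0), (4644, 0), (9288, 0), (2065, 0), (4128, 0), (8256, 0), (128, 0), (256, 0), (4608, 0), (9216, 0), (2048, 0), (4096, 0), (8192, 0)]),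
  (4, 1, [(513, 0), (2, 0), (4, 0), (184, 0), (144, 0), (160, 0), (578, 0), (128, 0), (7424, 0), (512, 0), (5120, 0), (6144, 0), (4096, 0), (8192, 0)]),
  (4, 2, [(1, 512), (2, 0), (4, 0), (168, 48), (144, 128), (32, 128), (576, 514), (128, 0), (6400, 3072), (512, 0), (5120, 4096), (2048, 4096), (4096, 0), (8192, 0)]),
  (4, 3, [(513, 512), (2, 0), (4, 0), (152, 48), (16, 128), (160, 128), (66, 514), (128, 0), (5376, 3072), (512, 0), (1024, 4096), (6144, 4096), (4096, 0), (8192, 0)]),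
  (5, 3, [(1, 0), (258, 256), (12, 8), (8, 0), (16, 0), (96, 64), (64, 0), (129, 257), (256, 0), (1536, 1024), (1024, 0), (2048, 0), (12288, 8192), (8192, 0)]),
  (6, 1, [(1, 0), (130, 0), (4, 0), (12, 0), (16, 0), (32, 0), (96, 0), (128, 0), (385, 0), (512, 0), (1536, 0), (2048, 0), (4096, 0), (12288, 0)]),
  (6, 2, [(1, 0), (2, 128), (4, 0), (8, 4), (16, 0), (32, 0), (64, 32), (128, 0), (384, 129), (512, 0), (1024, 512), (2048, 0), (4096, 0), (8192, 4096)]),
  (6, 3, [(1, 0), (130, 128), (4, 0), (12, 4), (16, 0), (32, 0), (96, 32), (128, 0), (257, 129), (512, 0), (1536, 512), (2048, 0), (4096, 0), (12288, 4096)]),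
  (7, 1, [(65, 0), (2, 0), (4, 0), (8, 0), (24, 0), (40, 0), (64, 0), (184, 0), (256, 0), (578, 0), (1280, 0), (2304, 0), (7424, 0), (8192, 0)]),
  (7, 2, [(1, 64), (2, 0), (4, 0), (8, 0), (16, 8), (40, 8), (64, 0), (152, 48), (256, 0), (576, 66), (1024, 256), (2304, 256), (5376, 3072), (8192, 0)]),
  (7, 3, [(65, 64), (2, 0), (4, 0), (8, 0), (24, 8), (32, 8), (64, 0), (168, 48), (256, 0), (514, 66), (1280, 256), (2048, 256), (6400, 3072), (8192, 0)]),
  (8, 1, [(33, 0), (34, 0), (4, 0), (8, 0), (20, 0), (32, 0), (68, 0), (128, 0), (340, 0), (640, 0), (1059, 0), (2176, 0), (4096, 0), (10880, 0)]),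
  (8, 2, [(1, 32), (2, 32), (4, 0), (8, 0), (16, 4), (32, 0), (68, 4), (128, 0), (276, 80), (512, 128), (1056, 35), (2176, 128), (4096, 0), (8832, 2560)]),
  (8, 3, [(33, 32), (34, 32), (4, 0), (8, 0), (20, 4), (32, 0), (64, 4), (128, 0), (324, 80), (640, 128), (1027, 35), (2048, 128), (4096, 0), (10368, 2560)]),
  (9, 1, [(1, 0), (18, 0), (4, 0), (8, 0), (16, 0), (36, 0), (72, 0), (128, 0), (256, 0), (516, 0), (1032, 0), (2065, 0), (4644, 0), (9288, 0)]),
  (9, 2, [(1, 0), (2, 16), (4, 0), (8, 0), (16, 0), (32, 4), (64, 8), (128, 0), (256, 0), (516, 4), (1032, 8), (2064, 17), (4132, 544), (8264, 1088)]),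
  (9, 3, [(1, 0), (18, 16), (4, 0), (8, 0), (16, 0), (36, 4), (72, 8), (128, 0), (256, 0), (512, 4), (1024, 8), (2049, 17), (4612, 544), (9224, 1088)]),
  (10, 1, [(9, 0), (10, 0), (4, 0), (8, 0), (16, 0), (32, 0), (64, 0), (132, 0), (256, 0), (528, 0), (1024, 0), (2112, 0), (4107, 0), (8448, 0)]),
  (10, 3, [(9, 8), (10, 8), (4, 0), (8, 0), (16, 0), (32, 0), (64, 0), (132, 4), (256, 0), (528, 16), (1024, 0), (2112, 64), (4099, 11), (8448, 256)]),
  (11, 1, [(5, 0), (2, 0), (4, 0), (8, 0), (16, 0), (32, 0), (64, 0), (128, 0), (264, 0), (512, 0), (1040, 0), (2080, 0), (4224, 0), (8198, 0)]),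
  (11, 2, [(1, 4), (2, 0), (4, 0), (8, 0), (16, 0), (32, 0), (64, 0), (128, 0), (256, 8), (512, 0), (1024, 16), (2048, 32), (4096, 128), (8196, 6)]),
  (11, 3, [(5, 4), (2, 0), (4, 0), (8, 0), (16, 0), (32, 0), (64, 0), (128, 0), (264, 8), (512, 0), (1040, 16), (2080, 32), (4224, 128), (8194, 6)])]

/-- the letters as words in root elements (numbers in the list) -/
def W : ℕ → List ℕ
  | 1 => [25, 21, 15, 6, 11, 3, 15, 11]
  | 2 => [24, 20, 18, 1, 20, 18]
  | 3 => [26, 19, 14, 18, 6, 12, 0, 5, 14, 11]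
  | 4 => [26, 23, 19, 14, 18, 14, 8, 14, 13, 6, 13, 6, 13, 4, 9, 16]
  | 5 => [24, 22, 21, 15, 17, 15, 7, 15, 13, 6, 13, 6, 10, 13, 1, 4, 13, 25, 2, 25, 24, 0, 24]
  | 6 => [21, 15, 17, 8, 12, 4, 15, 11]
  | _ => []

end Cfsg.Agent.G24
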